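import Groth.Agent.S3572
import Groth.Agent.Lib.CurveBundle
import Groth.Agent.Lib.CurveDualPrep
import Groth.Agent.H23.Frame
import Groth.Agent.DimFormula.DedekindFlat
import Groth.Agent.CurveCohLib.SubBundle
import Groth.Agent.AmpleVan.Vanish
import Groth.Agent.KFlatLib.Perfect.Tensor

/-! The submodule generated by a linear series and the associated morphism. -/

noncomputable section

set_option linter.style.haveILetI false
set_option linter.unusedSectionVars false
set_option backward.isDefEq.respectTransparency false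
set_option backward.isDefEq.respectTransparency.types false

universe u

open CategoryTheory CategoryTheory.Limits AlgebraicGeometry TopologicalSpace Opposite

namespace Groth.Agent.LinSerLib

open Groth.Agent

variable {X : Scheme.{u}}

/-- The images of the unit sections generate along an epimorphism. -/
theorem generatedBy_of_epi {n : ℕ} {F : X.Modules} (q : FlatMod.freeMod X n ⟶ F) [Epi q] :
    ProjUP.GeneratedBy F fun i : Fin n => q.app ⊤ ((H23.Frame.incl X n i).app ⊤ (H23.Frame.one ⊤)) := by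
  intro x
  refine eq_top_iff.2 fun m _ => ?_
  haveI : Epi ((DerSch.stalkFunctor X x).map q) := inferInstance
  obtain ⟨y, rfl⟩ := (ModuleCat.epi_iff_surjective _).1 this m
  obtain ⟨W, hxW, w, rfl⟩ := TopCat.Presheaf.exists_germ_eq (FlatMod.freeMod X n).presheaf y
  rw [← H23.Frame.free_eq_sum W w, map_sum, map_sum]
  refine Submodule.sum_mem _ fun i _ => ?_
  rw [QCoh.germ_smul']
  refine (map_smul ((DerSch.stalkFunctor X x).map q).hom _ _).symm ▸ Submodule.smul_mem _ _ (Submodule.subset_span ⟨i, ?_⟩)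
  refine Eq.symm ((TopCat.Presheaf.stalkFunctor_map_germ_apply (C := AddCommGrpCat) W x hxW
    ((Scheme.Modules.toPresheaf X).map q) ((H23.Frame.incl X n i).app W (H23.Frame.one W))).trans ?_)
  show F.presheaf.germ W x hxW (q.app W ((H23.Frame.incl X n i).app W (H23.Frame.one W))) = _
  refine Eq.trans (congrArg (fun a => F.presheaf.germ W x hxW (q.app W ((H23.Frame.incl X n i).app W a)))
    (map_one (X.presheaf.map (homOfLE (le_top : W ≤ ⊤)).op).hom).symm) ?_
  show F.presheaf.germ W x hxW (q.app W ((H23.Frame.incl X n i).app W (AModX.res (Coh.structureModule X) (le_top : W ≤ ⊤) (H23.Frame.one ⊤)))) = _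
  rw [AModX.app_res, AModX.app_res]
  exact InvX.germ_res' (le_top : W ≤ ⊤) hxW _

/-- A nonzero coherent submodule of an invertible module on a regular curve is invertible. -/
theorem isInvertible_of_mono [IsIntegral X] [IsNoetherian X] (hdim : topologicalKrullDim X = 1)
    (hreg : ∀ x : X, IsRegularLocalRing (X.presheaf.stalk x)) {F L : X.Modules} (j : F ⟶ L) [Mono j]
    (hF : Coh.IsCoh F) (hL : PicF.IsInvertible L) {m : F.presheaf.stalk (genericPoint X)} (hm : m ≠ 0) :
    PicF.IsInvertible F := by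
  have hL1 := InvEnd.isFinLocFreeOfRank_one hL
  have hLf : FlatMod.IsFinLocFree L := fun x => let ⟨U, hx, e⟩ := hL1 x; ⟨U, 1, hx, e⟩
  have hFf : FlatMod.IsFinLocFree F := QCoh.isFinLocFree_iff.2 ⟨QCoh.isCoh_iff_isFP.1 hF, fun x => by
    haveI := hreg x
    haveI : IsPrincipalIdealRing (X.presheaf.stalk x) := DimFormula.isPrincipalIdealRing_of_regular_dim_le_one
      ((CurveCohLib.ringKrullDim_stalk_le_topologicalKrullDim x).trans hdim.le)
    exact CurveBundle.free_stalk_of_mono j hLf x⟩
  have hr : CurveBundle.rk F = 1 := by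
    letI := (CurveBundle.isField_stalk_generic (X := X)).toField
    haveI := CurveBundle.finite_stalk_of_coh hF (genericPoint X)
    haveI := QCoh.finite_stalk_of_isFT (QCoh.isQCoh_of_isFinLocFree hLf)
      (QCoh.isFT_of_isFP (QCoh.isFP_of_isFinLocFree hLf)) (genericPoint X)
    have h1 := LinearMap.finrank_le_finrank_of_injective (CurveBundle.stalkMap_injective j (genericPoint X))
    have h2 : 0 < CurveBundle.rk F := Module.finrank_pos_iff_exists_ne_zero.2 ⟨m, hm⟩
    have h3 := CurveBundle.rk_eq hL1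
    unfold CurveBundle.rk at h2 h3 ⊢
    omega
  exact CurveDuality.isInvertible_of_rank_one (hr ▸ CurveBundle.isFinLocFreeOfRank_rk hFf)

/-- Sections of an invertible module on a regular curve, not all zero at the generic point, define a
morphism to projective space. -/
theorem exists_morphism [IsIntegral X] [IsNoetherian X] (hdim : topologicalKrullDim X = 1)
    (hreg : ∀ x : X, IsRegularLocalRing (X.presheaf.stalk x)) {k : Type u} [Field k]
    (p : X ⟶ Spec (CommRingCat.of k)) {L : X.Modules} (hL : PicF.IsInvertible L) {r : ℕ}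
    (s : Fin (r + 1) → Γ(L, ⊤)) {i₀ : Fin (r + 1)}
    (hs : L.presheaf.germ ⊤ (genericPoint X) trivial (s i₀) ≠ 0) :
    ∃ (φ : X ⟶ CohB1.ProjSpace r k) (α : (Scheme.Modules.pullback φ).obj (Twist.twistProjSpace r k 1) ⟶ L),
      φ ≫ CohB1.ProjSpace.toSpec r k = p ∧
        ∀ i, α.app ⊤ (ProjUP.pullSec φ (Twist.twistProjSpace r k 1) (ProjUP.coord r k i)) = s i := by
  let q₀ : FlatMod.freeMod X (r + 1) ⟶ L := Sigma.desc fun i => QCoh.homOfTop (s i)
  let F := Abelian.image q₀
  let q : FlatMod.freeMod X (r + 1) ⟶ F := Abelian.factorThruImage q₀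
  let j : F ⟶ L := Abelian.image.ι q₀
  have hfree : Coh.IsCoh (FlatMod.freeMod X (r + 1)) :=
    QCoh.isCoh_iff_isFP.2 (QCoh.isFP_of_isFinLocFree (KFlatLib.isFinLocFree_freeMod (r + 1)))
  have hLc := AmpleVan.isCoh_invertible hL
  have hF : Coh.IsCoh F := QCoh.isCoh_of_epi q hfree (QCoh.isQCoh_kernel hLc.1 (QCoh.isQCoh_cokernel hfree.1 hLc.1 q₀) _)
  let t : Fin (r + 1) → Γ(F, ⊤) := fun i => q.app ⊤ ((H23.Frame.incl X (r + 1) i).app ⊤ (H23.Frame.one ⊤))
  have ht : ∀ i, j.app ⊤ (t i) = s i := fun i => by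
    show (H23.Frame.incl X (r + 1) i ≫ q ≫ j).app ⊤ (H23.Frame.one ⊤) = s i
    rw [Abelian.image.fac q₀, show H23.Frame.incl X (r + 1) i ≫ q₀ = QCoh.homOfTop (s i) from Sigma.ι_desc _ _]
    show (QCoh.homOfTop (s i)).app ⊤ (1 : Γ(X, ⊤)) = s i
    rw [QCoh.homOfTop_app, one_smul]
    exact ConcreteCategory.congr_hom (L.presheaf.map_id _) _
  have hFi : PicF.IsInvertible F := isInvertible_of_mono hdim hreg j hF hL
    (m := F.presheaf.germ ⊤ (genericPoint X) trivial (t i₀)) fun h0 => hs (by
      rw [← ht i₀]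
      exact ((TopCat.Presheaf.stalkFunctor_map_germ_apply (C := AddCommGrpCat) ⊤ (genericPoint X) trivial
        ((Scheme.Modules.toPresheaf X).map j) (t i₀)).symm.trans (congrArg _ h0)).trans (map_zero _))
  obtain ⟨φ, hφ, τ, hτ⟩ := S3572.result r p F hFi t (generatedBy_of_epi q)
  exact ⟨φ, τ.hom ≫ j, hφ, fun i => (congrArg (j.app ⊤) (hτ i)).trans (ht i)⟩

/-- A nonzero section of an invertible module is nonzero at the generic point. -/
theorem germ_generic_ne_zero [IsIntegral X] {L : X.Modules} (hL : PicF.IsInvertible L) {z : Γ(L, ⊤)} (hz : z ≠ 0) :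
    L.presheaf.germ ⊤ (genericPoint X) trivial z ≠ 0 := fun h0 => hz (by
  have hne : QCoh.homOfTop z ≠ 0 := fun h => hz (by
    have h1 := congrArg (fun φ => Scheme.Modules.Hom.app φ ⊤ (1 : Γ(X, ⊤))) h
    simp only [QCoh.homOfTop_app, one_smul] at h1
    exact (ConcreteCategory.congr_hom (L.presheaf.map_id _) z).symm.trans h1)
  obtain ⟨W, hW, i, j, hWe⟩ := L.presheaf.germ_eq (U := ⊤) (V := ⊤) (genericPoint X) trivial trivial z 0 (h0.trans (map_zero _).symm)
  haveI : Nonempty (W : X.Opens) := ⟨⟨genericPoint X, hW⟩⟩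
  have h2 : (QCoh.homOfTop z).app W (1 : Γ(X, W)) = (QCoh.homOfTop z).app W (0 : Γ(X, W)) := by
    rw [QCoh.homOfTop_app, QCoh.homOfTop_app, one_smul, zero_smul]
    exact hWe.trans (map_zero _)
  exact absurd (InvEnd.app_injective_of_ne_zero CurveDeg.isInvertible_structureModule hL _ hne W h2)
    (one_ne_zero (α := Γ(X, W))))

end Groth.Agent.LinSerLib
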